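import Mathlib
import Groth.Prelude.Def_ModSite2
import Groth.Agent.ModSiteLib.SetPullLocal

/-!
# Sections of the inverse image of a sheaf of rings

For a continuous functor `fn : D ⥤ C` with exact inverse image of sheaves of sets and a sheaf of
rings `R` on `D`, sections of the inverse image ring are locally of the form `η (h, b)` with
`h : V ⟶ fn W`, `b ∈ R W`, and two such agree iff they agree locally after a common refinement.
-/

set_option autoImplicit false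
set_option backward.isDefEq.respectTransparency false
set_option backward.isDefEq.respectTransparency.types false

universe u

open CategoryTheory Limits Opposite
open Groth.Agent.ModSiteLib.SetPull

namespace Groth.Agent.InvRingLib

variable {C D : Type u} [SmallCategory C] [SmallCategory D] {J : GrothendieckTopology C}
  {K : GrothendieckTopology D} (fn : D ⥤ C) [fn.IsContinuous K J]
  [PreservesFiniteLimits (fn.sheafPullback (Type u) K J)] (R : Sheaf K CommRingCat.{u})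

/-- Restriction of a section of `R`. -/
abbrev rS {W W' : D} (k : W' ⟶ W) (b : R.obj.obj (op W)) : R.obj.obj (op W') := (R.obj.map k.op).hom b

theorem rS_comp {W W' W'' : D} (k : W' ⟶ W) (l : W'' ⟶ W') (b : R.obj.obj (op W)) :
    rS R (l ≫ k) b = rS R l (rS R k b) := by simp [rS]

/-- Representatives of sections. -/
structure Rep (V : C) : Type u where
  W : D
  h : V ⟶ fn.obj W
  b : R.obj.obj (op W)

variable {fn R}

/-- Restriction of representatives. -/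
abbrev Rep.rest {V V' : C} (g : V' ⟶ V) (x : Rep fn R V) : Rep fn R V' := ⟨x.W, g ≫ x.h, x.b⟩

theorem loc_pullback {V : C} {p : ∀ ⦃V' : C⦄, (V' ⟶ V) → Prop} (hp : Loc J V p) {V₁ : C}
    (g : V₁ ⟶ V) : Loc J V₁ fun V' g' => p (g' ≫ g) := by
  obtain ⟨S, hS, hp⟩ := hp
  exact ⟨S.pullback g, J.pullback_stable g hS, fun V' g' hg' => hp _ hg'⟩

/-- Agreement after refinement. -/
def Ref {V : C} (x y : Rep fn R V) : Prop :=
  Loc J V fun V' g => ∃ (W₀ : D) (h₀ : V' ⟶ fn.obj W₀) (p : W₀ ⟶ x.W) (q : W₀ ⟶ y.W),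
    g ≫ x.h = h₀ ≫ fn.map p ∧ g ≫ y.h = h₀ ≫ fn.map q ∧ rS R p x.b = rS R q y.b

theorem Ref.refl {V : C} (x : Rep fn R V) : Ref (J := J) x x :=
  Loc.of_forall fun _ g => ⟨x.W, g ≫ x.h, 𝟙 _, 𝟙 _, by simp, by simp, rfl⟩

theorem Ref.symm {V : C} {x y : Rep fn R V} (h : Ref (J := J) x y) : Ref (J := J) y x :=
  Loc.mono h fun _ _ ⟨W₀, h₀, p, q, e₁, e₂, e₃⟩ => ⟨W₀, h₀, q, p, e₂, e₁, e₃.symm⟩

theorem Ref.trans {V : C} {x y z : Rep fn R V} (hxy : Ref (J := J) x y) (hyz : Ref (J := J) y z) :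
    Ref (J := J) x z := by
  refine Loc.bind (Loc.and hxy hyz) ?_
  rintro V' g ⟨⟨W₀, h₀, p, q, e₁, e₂, e₃⟩, ⟨W₁, h₁, q', s, e₁', e₂', e₃'⟩⟩
  refine Loc.bind (loc_lift_pair (J := J) (K := K) fn h₀ h₁) ?_
  rintro V₂ g₂ ⟨W₂, h₂, a, c, ea, ec⟩
  have he : h₂ ≫ fn.map (a ≫ q) = h₂ ≫ fn.map (c ≫ q') := by
    rw [fn.map_comp, fn.map_comp, ← reassoc_of% ea, ← reassoc_of% ec, ← e₂, e₁']
  refine Loc.mono (loc_lift_eq (J := J) (K := K) fn (a ≫ q) (c ≫ q') h₂ he) ?_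
  rintro V₃ g₃ ⟨W₃, h₃, k, hk, ek⟩
  refine ⟨W₃, h₃, k ≫ a ≫ p, k ≫ c ≫ s, ?_, ?_, ?_⟩
  · simp only [fn.map_comp, Category.assoc]
    rw [e₁, reassoc_of% ea, reassoc_of% ek]
  · simp only [fn.map_comp, Category.assoc]
    rw [e₂', reassoc_of% ec, reassoc_of% ek]
  · calc rS R (k ≫ a ≫ p) x.b = rS R (k ≫ a) (rS R p x.b) := by rw [← rS_comp, Category.assoc]
      _ = rS R (k ≫ a) (rS R q y.b) := by rw [e₃]
      _ = rS R (k ≫ c) (rS R q' y.b) := by
          rw [← rS_comp, ← rS_comp, Category.assoc, Category.assoc, hk]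
      _ = rS R (k ≫ c) (rS R s z.b) := by rw [e₃']
      _ = rS R (k ≫ c ≫ s) z.b := by rw [← rS_comp, Category.assoc]

theorem Ref.rest {V V' : C} (g : V' ⟶ V) {x y : Rep fn R V} (h : Ref (J := J) x y) :
    Ref (J := J) (x.rest g) (y.rest g) :=
  Loc.mono (loc_pullback h g) fun _ g' ⟨W₀, h₀, p, q, e₁, e₂, e₃⟩ =>
    ⟨W₀, h₀, p, q, by simpa using e₁, by simpa using e₂, e₃⟩

/-- A representative and its refinement agree. -/
theorem ref_refine {V : C} {W W₀ : D} (h₀ : V ⟶ fn.obj W₀) (p : W₀ ⟶ W) (b : R.obj.obj (op W)) :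
    Ref (J := J) (R := R) ⟨W, h₀ ≫ fn.map p, b⟩ ⟨W₀, h₀, rS R p b⟩ :=
  Loc.of_forall fun V' g => ⟨W₀, g ≫ h₀, p, 𝟙 _, by simp, by simp, by simp [rS]⟩

variable (J fn R)

/-- The setoid of representatives. -/
def repSetoid (V : C) : Setoid (Rep fn R V) :=
  ⟨Ref (J := J), ⟨Ref.refl, Ref.symm, Ref.trans⟩⟩

/-- The presheaf of classes of representatives. -/
def Pre : Cᵒᵖ ⥤ Type u where
  obj V := Quotient (repSetoid J fn R V.unop)
  map g := ↾Quotient.map (sa := repSetoid J fn R _) (sb := repSetoid J fn R _)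
    (Rep.rest g.unop) (fun _ _ h => h.rest g.unop)
  map_id V := by
    ext x
    induction x using Quotient.ind
    exact congrArg (Quotient.mk _) (by simp [Rep.rest])
  map_comp g g' := by
    ext x
    induction x using Quotient.ind
    exact congrArg (Quotient.mk _) (by simp [Rep.rest])

/-- The sheaf of sets of local classes. -/
noncomputable def Q : Sheaf J (Type u) := (presheafToSheaf J (Type u)).obj (Pre J fn R)

/-- The sheafification map. -/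
noncomputable def toQ : Pre J fn R ⟶ (Q J fn R).obj := toSheafify J (Pre J fn R)

variable {J fn R}

/-- Restriction in `Q`. -/
noncomputable abbrev rQ {V V' : C} (g : V' ⟶ V) (z : (Q J fn R).obj.obj (op V)) :
    (Q J fn R).obj.obj (op V') := (Q J fn R).obj.map g.op z

theorem rQ_rQ {V V' V'' : C} (g : V' ⟶ V) (g' : V'' ⟶ V') (z : (Q J fn R).obj.obj (op V)) :
    rQ g' (rQ g z) = rQ (g' ≫ g) z := by
  simp [rQ]

/-- The section attached to a representative. -/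
noncomputable def η {V : C} (x : Rep fn R V) : (Q J fn R).obj.obj (op V) :=
  (toQ J fn R).app (op V) (Quotient.mk (repSetoid J fn R V) x)

theorem rQ_η {V V' : C} (g : V' ⟶ V) (x : Rep fn R V) : rQ g (η (J := J) x) = η (x.rest g) := by
  exact (NatTrans.naturality_apply (toQ J fn R) g.op (Quotient.mk (repSetoid J fn R V) x)).symm

theorem η_eq {V : C} {x y : Rep fn R V} (h : Ref (J := J) x y) : η (J := J) x = η y :=
  congrArg ((toQ J fn R).app (op V)) (Quotient.sound (s := repSetoid J fn R V) h)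

theorem η_refine {V : C} {W W₀ : D} (h₀ : V ⟶ fn.obj W₀) (p : W₀ ⟶ W) (b : R.obj.obj (op W)) :
    η (J := J) (R := R) ⟨W, h₀ ≫ fn.map p, b⟩ = η ⟨W₀, h₀, rS R p b⟩ :=
  η_eq (ref_refine h₀ p b)

theorem Q_ext {V : C} {x y : (Q J fn R).obj.obj (op V)}
    (h : Loc J V fun _ g => rQ g x = rQ g y) : x = y := by
  obtain ⟨S, hS, hp⟩ := h
  exact Presieve.IsSeparatedFor.ext
    (((isSheaf_iff_isSheaf_of_type _ _).1 (Q J fn R).2 S hS).isSeparatedFor) hp

theorem loc_rep {V : C} (z : (Q J fn R).obj.obj (op V)) :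
    Loc J V fun V' g => ∃ x : Rep fn R V', rQ g z = η x := by
  haveI : Presheaf.IsLocallySurjective J (toQ J fn R) :=
    inferInstanceAs (Presheaf.IsLocallySurjective J (toSheafify J (Pre J fn R)))
  refine ⟨_, Presheaf.imageSieve_mem J (toQ J fn R) z, ?_⟩
  rintro V' g ⟨t, ht⟩
  obtain ⟨x, rfl⟩ := Quotient.exists_rep (s := repSetoid J fn R V') t
  exact ⟨x, ht.symm⟩

theorem ref_of_η_eq {V : C} {x y : Rep fn R V} (h : η (J := J) x = η y) : Ref (J := J) x y := by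
  haveI : Presheaf.IsLocallyInjective J (toQ J fn R) :=
    inferInstanceAs (Presheaf.IsLocallyInjective J (toSheafify J (Pre J fn R)))
  have hS : Presheaf.equalizerSieve (F := Pre J fn R) (X := op V) (Quotient.mk (repSetoid J fn R V) x)
      (Quotient.mk (repSetoid J fn R V) y) ∈ J V :=
    Presheaf.equalizerSieve_mem J (toQ J fn R) _ _ h
  refine Loc.bind (p := fun _ g => Ref (J := J) (x.rest g) (y.rest g)) ⟨_, hS, fun V' g hg =>
    Quotient.exact (s := repSetoid J fn R V') hg⟩ fun V' g hg => ?_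
  exact Loc.mono hg fun V'' g' ⟨W₀, h₀, p, q, e₁, e₂, e₃⟩ =>
    ⟨W₀, h₀, p, q, by simpa using e₁, by simpa using e₂, e₃⟩

/-- Every object locally maps to an image object. -/
theorem loc_obj [fn.IsContinuous K J] [PreservesFiniteLimits (fn.sheafPullback (Type u) K J)] (V : C) :
    Loc J V fun V' _ => ∃ W : D, Nonempty (V' ⟶ fn.obj W) := by
  let A : Dᵒᵖ ⥤ Type u := (Functor.const _).obj PUnit.{u+1}
  let A' : Cᵒᵖ ⥤ Type u := (Functor.const _).obj PUnit.{u+1}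
  let κ : A ⟶ fn.op ⋙ A' := { app := fun _ => ↾fun _ => PUnit.unit }
  have hA : IsTerminal A := evaluationJointlyReflectsLimits _ fun Z =>
    (isLimitMapConeEmptyConeEquiv _ _).symm Types.isTerminalPUnit
  have hA' : IsTerminal A' := evaluationJointlyReflectsLimits _ fun Z =>
    (isLimitMapConeEmptyConeEquiv _ _).symm Types.isTerminalPUnit
  let L := fn.sheafPullback (Type u) K J
  haveI : PreservesFiniteLimits (presheafToSheaf K (Type u) ⋙ L) := comp_preservesFiniteLimits _ _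
  have hT := hA.isTerminalObj (presheafToSheaf K (Type u) ⋙ L)
  have hT' := hA'.isTerminalObj (presheafToSheaf J (Type u))
  haveI : IsIso (comparison (J := J) K fn κ) :=
    ⟨hT.from _, hT.hom_ext _ _, hT'.hom_ext _ _⟩
  refine Loc.mono (loc_lift (J := J) fn κ
    (fun P => ((isIso_comparison_iff (K := K) fn κ).1 inferInstance P).1) V PUnit.unit) ?_
  rintro V' g ⟨W, h, -, -⟩
  exact ⟨W, ⟨h⟩⟩

/-- Two sections locally have representatives on a common object. -/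
theorem loc_rep₂ {V : C} (x y : (Q J fn R).obj.obj (op V)) :
    Loc J V fun V' g => ∃ (W : D) (h : V' ⟶ fn.obj W) (a b : R.obj.obj (op W)),
      rQ g x = η ⟨W, h, a⟩ ∧ rQ g y = η ⟨W, h, b⟩ := by
  refine Loc.bind (Loc.and (loc_rep x) (loc_rep y)) ?_
  rintro V' g ⟨⟨⟨W₁, h₁, a⟩, ea⟩, ⟨⟨W₂, h₂, b⟩, eb⟩⟩
  refine Loc.mono (loc_lift_pair (J := J) (K := K) fn h₁ h₂) ?_
  rintro V'' g' ⟨W, h, p, q, hp, hq⟩
  refine ⟨W, h, rS R p a, rS R q b, ?_, ?_⟩
  · rw [← rQ_rQ, ea, rQ_η, ← η_refine]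
    simp only [Rep.rest, hp]
  · rw [← rQ_rQ, eb, rQ_η, ← η_refine]
    simp only [Rep.rest, hq]

/-- Three sections locally have representatives on a common object. -/
theorem loc_rep₃ {V : C} (x y z : (Q J fn R).obj.obj (op V)) :
    Loc J V fun V' g => ∃ (W : D) (h : V' ⟶ fn.obj W) (a b c : R.obj.obj (op W)),
      rQ g x = η ⟨W, h, a⟩ ∧ rQ g y = η ⟨W, h, b⟩ ∧ rQ g z = η ⟨W, h, c⟩ := by
  refine Loc.bind (Loc.and (loc_rep₂ x y) (loc_rep z)) ?_
  rintro V' g ⟨⟨W₁, h₁, a, b, ea, eb⟩, ⟨⟨W₂, h₂, c⟩, ec⟩⟩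
  refine Loc.mono (loc_lift_pair (J := J) (K := K) fn h₁ h₂) ?_
  rintro V'' g' ⟨W, h, p, q, hp, hq⟩
  refine ⟨W, h, rS R p a, rS R p b, rS R q c, ?_, ?_, ?_⟩
  · rw [← rQ_rQ, ea, rQ_η, ← η_refine]
    simp only [Rep.rest, hp]
  · rw [← rQ_rQ, eb, rQ_η, ← η_refine]
    simp only [Rep.rest, hp]
  · rw [← rQ_rQ, ec, rQ_η, ← η_refine]
    simp only [Rep.rest, hq]

/-- Gluing of a binary operation given on representatives. -/
theorem exists_op (o : ∀ W, R.obj.obj (op W) → R.obj.obj (op W) → R.obj.obj (op W))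
    (ho : ∀ ⦃W W' : D⦄ (k : W' ⟶ W) a b, rS R k (o W a b) = o W' (rS R k a) (rS R k b))
    {V : C} (x y : (Q J fn R).obj.obj (op V)) :
    ∃ z : (Q J fn R).obj.obj (op V), ∀ ⦃V' : C⦄ (g : V' ⟶ V) (W : D) (h : V' ⟶ fn.obj W) (a b),
      rQ g x = η ⟨W, h, a⟩ → rQ g y = η ⟨W, h, b⟩ → rQ g z = η ⟨W, h, o W a b⟩ := by
  have wd : ∀ {V' : C} {W W' : D} (h : V' ⟶ fn.obj W) (h' : V' ⟶ fn.obj W') (a b a' b'),
      η (J := J) (R := R) ⟨W, h, a⟩ = η ⟨W', h', a'⟩ → η (J := J) (R := R) ⟨W, h, b⟩ = η ⟨W', h', b'⟩ →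
        η (J := J) (R := R) ⟨W, h, o W a b⟩ = η ⟨W', h', o W' a' b'⟩ := by
    intro V' W W' h h' a b a' b' ea eb
    refine η_eq ?_
    refine Loc.bind (Loc.and (ref_of_η_eq ea) (ref_of_η_eq eb)) ?_
    rintro V₁ g ⟨⟨W₀, h₀, p, q, e₁, e₂, e₃⟩, ⟨W₁, h₁, p', q', e₁', e₂', e₃'⟩⟩
    dsimp only at e₁ e₂ e₃ e₁' e₂' e₃'
    refine Loc.bind (loc_lift_pair (J := J) (K := K) fn h₀ h₁) ?_
    rintro V₂ g₂ ⟨W₂, h₂, s, t, es, et⟩
    have k₁ : h₂ ≫ fn.map (s ≫ p) = h₂ ≫ fn.map (t ≫ p') := by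
      rw [fn.map_comp, fn.map_comp, ← reassoc_of% es, ← reassoc_of% et, ← e₁, e₁']
    refine Loc.bind (loc_lift_eq (J := J) (K := K) fn (s ≫ p) (t ≫ p') h₂ k₁) ?_
    rintro V₃ g₃ ⟨W₃, h₃, k, hk, ek⟩
    have k₂ : h₃ ≫ fn.map (k ≫ s ≫ q) = h₃ ≫ fn.map (k ≫ t ≫ q') := by
      simp only [fn.map_comp]
      rw [← reassoc_of% ek, ← reassoc_of% es, ← reassoc_of% ek, ← reassoc_of% et, ← e₂, e₂']
    refine Loc.mono (loc_lift_eq (J := J) (K := K) fn (k ≫ s ≫ q) (k ≫ t ≫ q') h₃ k₂) ?_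
    rintro V₄ g₄ ⟨W₄, h₄, l, hl, el⟩
    refine ⟨W₄, h₄, l ≫ k ≫ s ≫ p, l ≫ k ≫ s ≫ q, ?_, ?_, ?_⟩
    · simp only [fn.map_comp, Category.assoc]
      rw [e₁, reassoc_of% es, reassoc_of% ek, reassoc_of% el]
    · simp only [fn.map_comp, Category.assoc]
      rw [e₂, reassoc_of% es, reassoc_of% ek, reassoc_of% el]
    · dsimp only
      rw [ho, ho]
      congr 1
      · rw [← Category.assoc l, ← Category.assoc (l ≫ k), rS_comp, e₃, ← rS_comp]
        simp only [Category.assoc]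
      · rw [show l ≫ k ≫ s ≫ p = ((l ≫ k) ≫ t) ≫ p' by simp only [Category.assoc]; rw [hk],
          rS_comp, e₃', ← rS_comp, show ((l ≫ k) ≫ t) ≫ q' = l ≫ k ≫ s ≫ q by
            simp only [Category.assoc]; rw [hl]]
  obtain ⟨S, hS, hp⟩ := loc_rep₂ x y
  choose W h a b hx hy using hp
  let fam : Presieve.FamilyOfElements (Q J fn R).obj S.arrows :=
    fun V' g hg => η ⟨W g hg, h g hg, o _ (a g hg) (b g hg)⟩
  have hcomp : fam.Compatible := by
    intro Y₁ Y₂ Z g₁ g₂ f₁ f₂ h₁ h₂ e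
    show rQ g₁ (η (J := J) (R := R) _) = rQ g₂ (η (J := J) (R := R) _)
    rw [rQ_η, rQ_η]
    refine wd _ _ _ _ _ _ ?_ ?_
    · show η (J := J) ((⟨W f₁ h₁, h f₁ h₁, a f₁ h₁⟩ : Rep fn R Y₁).rest g₁) =
        η ((⟨W f₂ h₂, h f₂ h₂, a f₂ h₂⟩ : Rep fn R Y₂).rest g₂)
      rw [← rQ_η, ← rQ_η, ← hx, ← hx, rQ_rQ, rQ_rQ, e]
    · show η (J := J) ((⟨W f₁ h₁, h f₁ h₁, b f₁ h₁⟩ : Rep fn R Y₁).rest g₁) =
        η ((⟨W f₂ h₂, h f₂ h₂, b f₂ h₂⟩ : Rep fn R Y₂).rest g₂)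
      rw [← rQ_η, ← rQ_η, ← hy, ← hy, rQ_rQ, rQ_rQ, e]
  have hsf := (isSheaf_iff_isSheaf_of_type _ _).1 (Q J fn R).2 S hS
  refine ⟨hsf.amalgamate fam hcomp, fun V' g W₁ h₁ a₁ b₁ ea eb => ?_⟩
  refine Q_ext ⟨S.pullback g, J.pullback_stable g hS, fun V'' g' hg' => ?_⟩
  have e0 : rQ (g' ≫ g) (hsf.amalgamate fam hcomp) = fam (g' ≫ g) hg' :=
    hsf.valid_glue hcomp (g' ≫ g) hg'
  show rQ g' (rQ g _) = rQ g' _
  rw [rQ_rQ, e0, rQ_η]
  refine wd _ _ _ _ _ _ ?_ ?_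
  · show η (J := J) (R := R) _ = η ((⟨W₁, h₁, a₁⟩ : Rep fn R V').rest g')
    rw [← rQ_η, ← hx, ← ea, rQ_rQ]
  · show η (J := J) (R := R) _ = η ((⟨W₁, h₁, b₁⟩ : Rep fn R V').rest g')
    rw [← rQ_η, ← hy, ← eb, rQ_rQ]

end Groth.Agent.InvRingLib
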