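import Groth.Agent.InvRingLib.RelMono

/-!
# Exactness of inverse images under relative flatness
-/

set_option autoImplicit false
set_option linter.style.haveILetI false
set_option backward.isDefEq.respectTransparency false

universe u

open CategoryTheory Limits MonoidalCategory Opposite Groth.Agent.ModSiteLib
open Groth.Agent.ModSiteLib.SetPull _root_.ModSiteLib

namespace Groth.Agent.InvRingLib

variable {C : Type u} [SmallCategory C] {J : GrothendieckTopology C} {O : Sheaf J CommRingCat.{u}}
  {D : Type u} [SmallCategory D] {K : GrothendieckTopology D} {O_D : Sheaf K CommRingCat.{u}}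
  {f : ModSite.RMor O O_D}

theorem invSharp_uR {V : C} {W : D} (h : V ⟶ f.fn.obj W) (a : O_D.obj.obj (op W)) :
    ((f.invSharp.hom.app (op V)).hom (uR (J := J) h a)) = _root_.ModSiteLib.ψ f h a := by
  refine (congr($(f.invSharp.hom.naturality h.op) _)).trans ?_
  have e : (f.fn.sheafAdjunctionContinuous CommRingCat.{u} K J).homEquiv O_D O f.invSharp = f.sharp :=
    Equiv.apply_symm_apply _ _
  rw [Adjunction.homEquiv_unit] at e
  exact congrArg (O.obj.map h.op).hom congr(($(e).hom.app (op W)).hom a)

/-- Finitely many sections of the inverse image ring come from one object over a given one. -/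
theorem loc_uR_finset {ι' : Type*} (s : Finset ι') {V : C} {W : D} (h : V ⟶ f.fn.obj W)
    (x : ι' → f.invRing.obj.obj (op V)) :
    Loc J V fun V' k => ∃ (W' : D) (h' : V' ⟶ f.fn.obj W') (q : W' ⟶ W),
      k ≫ h = h' ≫ f.fn.map q ∧ ∀ i ∈ s, ∃ b, (f.invRing.obj.map k.op).hom (x i) = uR h' b := by
  classical
  induction s using Finset.induction with
  | empty => exact Loc.of_forall fun V' k => ⟨W, k ≫ h, 𝟙 _, by simp, fun i hi => absurd hi (by simp)⟩
  | @insert i s _ ih =>
    refine Loc.bind (Loc.and ih (loc_uR (fn := f.fn) (J := J) (K := K) (x i))) ?_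
    rintro V₁ k₁ ⟨⟨W₁, h₁, q₁, e₁, hb⟩, ⟨W₂, h₂, a, ha⟩⟩
    refine Loc.mono (loc_lift_pair (J := J) (K := K) f.fn h₁ h₂) ?_
    rintro V₂ k₂ ⟨W', h', p₁, p₂, ep₁, ep₂⟩
    refine ⟨W', h', p₁ ≫ q₁, by rw [Category.assoc, e₁, ← Category.assoc, ep₁, f.fn.map_comp,
      Category.assoc], fun j hj => ?_⟩
    have hres : ∀ y, (f.invRing.obj.map (k₂ ≫ k₁).op).hom y =
        (f.invRing.obj.map k₂.op).hom ((f.invRing.obj.map k₁.op).hom y) := fun y => by
      exact congr(($(f.invRing.obj.map_comp k₁.op k₂.op)).hom y)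
    rcases Finset.mem_insert.1 hj with rfl | hj'
    · exact ⟨rS O_D p₂ a, by rw [hres, ha, res_uR, uR_refine, ep₂]⟩
    · obtain ⟨b, hb⟩ := hb j hj'
      exact ⟨rS O_D p₁ b, by rw [hres, hb, res_uR, uR_refine, ep₁]⟩

/-- Finitely many sections vanishing in the inverse image ring vanish after refinement. -/
theorem loc_zero_finset {ι' : Type*} (s : Finset ι') {V : C} {W : D} (h : V ⟶ f.fn.obj W)
    (e : ι' → O_D.obj.obj (op W)) (he : ∀ i ∈ s, uR (J := J) h (e i) = 0) :
    Loc J V fun V' k => ∃ (W' : D) (h' : V' ⟶ f.fn.obj W') (q : W' ⟶ W),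
      k ≫ h = h' ≫ f.fn.map q ∧ ∀ i ∈ s, rS O_D q (e i) = 0 := by
  classical
  induction s using Finset.induction with
  | empty => exact Loc.of_forall fun V' k => ⟨W, k ≫ h, 𝟙 _, by simp, fun i hi => absurd hi (by simp)⟩
  | @insert i s _ ih =>
    refine Loc.bind (ih fun j hj => he j (Finset.mem_insert_of_mem hj)) ?_
    rintro V₁ k₁ ⟨W₁, h₁, q₁, e₁, hb⟩
    have h0 : uR (J := J) h₁ (rS O_D q₁ (e i)) = uR h₁ 0 := by
      rw [uR_refine, ← e₁, ← res_uR, he i (Finset.mem_insert_self _ _), uR_zero, map_zero]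
    refine Loc.mono (loc_eq_uR h₁ _ _ h0) ?_
    rintro V₂ k₂ ⟨W₂, h₂, p, ep, he'⟩
    refine ⟨W₂, h₂, p ≫ q₁, by rw [Category.assoc, e₁, ← Category.assoc, ep, f.fn.map_comp,
      Category.assoc], fun j hj => ?_⟩
    rw [rS_comp]
    rcases Finset.mem_insert.1 hj with rfl | hj'
    · rw [he']; exact map_zero _
    · rw [hb j hj']; exact map_zero _

/-- Relative flatness from trivialisations over the inverse image ring. -/
theorem relEqn_of_inv {G : ModSite.Mod O}
    (hG : ∀ (V : C) (W : D) (h : V ⟶ f.fn.obj W) (n m : ℕ) (c : Fin n → Fin m → O_D.obj.obj (op W))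
      (g : Fin n → Sec G V), (∀ a, ∑ j, _root_.ModSiteLib.ψ f h (c j a) • g j = 0) →
      Loc J V fun V' k => ∃ (l : ℕ) (t : Fin l → Sec G V') (a : Fin n → Fin l → f.invRing.obj.obj (op V')),
        (∀ j, res ((jP O).obj G) k.op (g j) = ∑ i, (f.invSharp.hom.app (op V')).hom (a j i) • t i) ∧
        ∀ a' i, ∑ j, a j i * uR (k ≫ h) (c j a') = 0) : RelEqn f G := by
  intro V W h n m c g hg
  refine Loc.bind (hG V W h n m c g hg) ?_
  rintro V₁ k₁ ⟨l, t, a, hgt, ha⟩
  refine Loc.bind (loc_uR_finset (Finset.univ : Finset (Fin n × Fin l)) (k₁ ≫ h) fun p => a p.1 p.2) ?_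
  rintro V₂ k₂ ⟨W', h', q, ek, hb⟩
  choose b hb using fun p => hb p (Finset.mem_univ p)
  refine Loc.mono (loc_zero_finset (Finset.univ : Finset (Fin m × Fin l)) h'
    (fun p => ∑ j, b (j, p.2) * rS O_D q (c j p.1)) fun p _ => ?_) ?_
  · have := congrArg (f.invRing.obj.map k₂.op).hom (ha p.1 p.2)
    rw [map_zero, map_sum] at this
    refine Eq.trans ?_ this
    let φ : O_D.obj.obj (op W') →+* f.invRing.obj.obj (op V₂) :=
      ((f.invRing.obj.map h'.op).hom).comp
        ((((f.fn.sheafAdjunctionContinuous CommRingCat.{u} K J).unit.app O_D).hom.app (op W')).hom)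
    show φ (∑ j, b (j, p.2) * rS O_D q (c j p.1)) = _
    rw [map_sum]
    refine Finset.sum_congr rfl fun j _ => ?_
    rw [map_mul, map_mul, hb (j, p.2), res_uR, ek, ← uR_refine]
    rfl
  · rintro V₃ k₃ ⟨W'', h'', q', ek', he⟩
    refine ⟨W'', h'', q' ≫ q, l, fun i => res ((jP O).obj G) (k₃ ≫ k₂).op (t i),
      fun j i => rS O_D q' (b (j, i)), ?_, fun j => ?_, fun a' i => ?_⟩
    · rw [Category.assoc, Category.assoc, ek, ← Category.assoc, ek', f.fn.map_comp, Category.assoc]
    · rw [op_comp, ← res_comp, hgt j, res_sum]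
      refine Finset.sum_congr rfl fun i _ => ?_
      rw [res_smul]
      refine congrArg (· • res ((jP O).obj G) (k₃ ≫ k₂).op (t i)) ?_
      refine (congr($(f.invSharp.hom.naturality (k₃ ≫ k₂).op) _)).symm.trans ?_
      rw [← invSharp_uR]
      refine congrArg (f.invSharp.hom.app (op V₃)).hom ?_
      rw [uR_refine, ← ek', ← res_uR, ← hb (j, i)]
      exact congr(($(f.invRing.obj.map_comp k₂.op k₃.op)).hom (a j i))
    · refine Eq.trans ?_ (he (a', i) (Finset.mem_univ _))
      simp only [rS, map_sum, map_mul]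
      refine Finset.sum_congr rfl fun j _ => congrArg (_ * ·) ?_
      exact rS_comp O_D q q' _

/-- Flatness of the structure sheaf over the inverse image ring gives relative flatness. -/
theorem relEqn_of_isFlat_baseMod (hf : ModSite.IsFlat f.baseMod) : RelEqn f (ModSite.unit O) := by
  refine relEqn_of_inv fun V W h n m c g hg => ?_
  have hsmul : ∀ (V' : C) (r : f.invRing.obj.obj (op V')) (x : Sec (ModSite.unit O) V'),
      (show Sec (ModSite.unit O) V' from r • (show Sec f.baseMod V' from x)) =
        (f.invSharp.hom.app (op V')).hom r • x := fun V' r x => rfl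
  obtain ⟨S, hS, hp⟩ := eqn_multi (eqn_of_isFlat hf) (Finset.univ : Finset (Fin m))
    (fun a j => uR (J := J) h (c j a)) (fun j => (show Sec f.baseMod V from g j)) fun a _ => by
      refine Eq.trans ?_ (hg a)
      refine Finset.sum_congr rfl fun j _ => (hsmul V _ (g j)).trans ?_
      rw [invSharp_uR]
  refine ⟨S, hS, fun V' k hk => ?_⟩
  obtain ⟨l, t, b, ht, hb⟩ := hp k hk
  refine ⟨l, fun i => (show Sec (ModSite.unit O) V' from t i), b, fun j => (ht j).trans ?_,
    fun a i => ?_⟩
  · exact Finset.sum_congr rfl fun i _ => hsmul V' _ (t i)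
  · refine Eq.trans ?_ (hb a (Finset.mem_univ a) i)
    refine Finset.sum_congr rfl fun j _ => congrArg (_ * ·) ?_
    exact (res_uR k h _).symm

variable (f)

/-- Right exact functors keeping cover kernels mono keep all monos. -/
theorem preservesMono_of_cover {B : Type*} [Category* B] [Abelian B]
    (H : ModSite.Mod O_D ⥤ B) [H.Additive] [PreservesFiniteColimits H]
    (hH : ∀ {I : Type u} (obj : I → D) {M : ModSite.Mod O_D} (π : genMod obj ⟶ M), Epi π →
      Mono (H.map (kernel.ι π))) :
    H.PreservesMonomorphisms := by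
  refine ⟨fun {A X} a _ => ?_⟩
  let S : ShortComplex (ModSite.Mod O_D) := ShortComplex.mk a (cokernel.π a) (cokernel.condition a)
  have hS : S.Exact := ShortComplex.exact_cokernel a
  haveI : Mono S.f := ‹Mono a›
  let p := coverπ X
  let π := p ≫ cokernel.π a
  haveI : Mono (H.map (kernel.ι π)) := hH _ π inferInstance
  let r : kernel π ⟶ A := hS.lift (kernel.ι π ≫ p) (by
    show (kernel.ι π ≫ p) ≫ cokernel.π a = 0
    rw [Category.assoc]; exact kernel.condition π)
  have hr : r ≫ a = kernel.ι π ≫ p := hS.lift_f _ _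
  let j : kernel p ⟶ kernel π := kernel.lift π (kernel.ι p) (by
    rw [← Category.assoc, kernel.condition, zero_comp])
  have hj : j ≫ kernel.ι π = kernel.ι p := kernel.lift_ι _ _ _
  have hjr : j ≫ r = 0 := by
    rw [← cancel_mono a, Category.assoc, hr, ← Category.assoc, hj, kernel.condition, zero_comp]
  haveI : Epi r := by
    rw [Preadditive.epi_iff_cancel_zero]
    intro T t ht
    obtain ⟨T₁, π₁, _, y, hy⟩ := surjective_up_to_refinements_of_epi p a
    have hy' : y ≫ π = 0 := by
      rw [← Category.assoc, ← hy, Category.assoc, cokernel.condition, comp_zero]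
    have e : kernel.lift π y hy' ≫ r = π₁ := by
      rw [← cancel_mono a, Category.assoc, hr, kernel.lift_ι_assoc]
      exact hy.symm
    rw [← cancel_epi π₁, comp_zero, ← e, Category.assoc, ht, comp_zero]
  haveI : Epi (H.map r) := inferInstance
  obtain ⟨hp, -⟩ := Groth.Agent.ModSiteLib.Snake.exact_epi_map H
    (S := ShortComplex.mk (kernel.ι p) p (kernel.condition p)) (ShortComplex.exact_kernel p) inferInstance
  have e₀ : H.map j ≫ H.map (kernel.ι π) = H.map (kernel.ι p) := by rw [← H.map_comp, hj]
  have w : (H.map j ≫ H.map (kernel.ι π)) ≫ H.map p = 0 := by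
    rw [e₀, ← H.map_comp, kernel.condition, H.map_zero]
  let e' : (ShortComplex.mk (kernel.ι p) p (kernel.condition p)).map H ≅
      ShortComplex.mk (H.map j ≫ H.map (kernel.ι π)) (H.map p) w :=
    ShortComplex.isoMk (Iso.refl _) (Iso.refl _) (Iso.refl _)
      ((Category.id_comp _).trans (e₀.trans (Category.comp_id _).symm))
      ((Category.id_comp _).trans (Category.comp_id _).symm)
  exact Groth.Agent.ModSiteLib.Snake.mono_left (H.map j)
    (H.map (kernel.ι π)) (H.map p) (H.map r) (H.map a)
    (by rw [← H.map_comp, ← H.map_comp, hr]) w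
    ((ShortComplex.exact_iff_of_iso e').1 hp)
    (by rw [← H.map_comp, hjr, H.map_zero])

/-- Exactness of `f^*(-)` tensored with a relatively flat module. -/
theorem preservesFiniteLimits_tensor_pull {G : ModSite.Mod O} (hG : RelEqn f G) :
    PreservesFiniteLimits (f.pull ⋙ (ModSite.tensorBi O).obj G) := by
  haveI : f.pull.Additive := f.adj.left_adjoint_additive
  haveI : ((ModSite.tensorBi O).obj G).Additive := inferInstance
  haveI : PreservesColimitsOfSize.{0, 0} f.pull := f.adj.leftAdjoint_preservesColimits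
  haveI : PreservesFiniteColimits f.pull := inferInstance
  haveI : PreservesFiniteColimits (f.pull ⋙ (ModSite.tensorBi O).obj G) :=
    comp_preservesFiniteColimits _ _
  haveI := preservesMono_of_cover (f.pull ⋙ (ModSite.tensorBi O).obj G) fun obj M π _ =>
    mono_tensor_pull f G (fun W => injective_ap_of_mono (kernel.ι π) W) hG
  haveI : (f.pull ⋙ (ModSite.tensorBi O).obj G).PreservesHomology :=
    Functor.preservesHomology_of_preservesMonos_and_cokernels _
  exact Functor.preservesFiniteLimits_of_preservesHomology _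

/-- Monos are detected after tensoring with the unit. -/
theorem mono_of_mono_unit_tensor {M N : ModSite.Mod O} (φ : M ⟶ N)
    (h : Mono (((ModSite.tensorBi O).obj (ModSite.unit O)).map φ)) : Mono φ := by
  refine mono_of_injective_ap _ fun V => (injective_iff_map_eq_zero
    (((jP O).map φ).app (op V)).hom).2 fun z hz => ?_
  have h0 : shT (ModSite.unit O) M (1 : O.obj.obj (op V)) z = 0 := by
    apply injective_ap_of_mono (((ModSite.tensorBi O).obj (ModSite.unit O)).map φ) V
    rw [ap_tensorBi₂, ap_zero]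
    exact (congrArg (shT _ _ _) hz).trans (bil_zero_right _)
  have h1 := congrArg (ap (unitTensorIso M).hom V) h0
  rw [ap_unitTensorIso, one_smul, ap_zero] at h1
  exact h1

/-- Flatness of the structure sheaf over the inverse image ring makes `f^*` exact. -/
theorem isFlat_of_baseMod (hf : ModSite.IsFlat f.baseMod) : f.IsFlat := by
  haveI : f.pull.Additive := f.adj.left_adjoint_additive
  haveI : PreservesColimitsOfSize.{0, 0} f.pull := f.adj.leftAdjoint_preservesColimits
  haveI : PreservesFiniteColimits f.pull := inferInstance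
  haveI := preservesMono_of_cover f.pull fun obj M π _ => mono_of_mono_unit_tensor _
    (mono_tensor_pull f (ModSite.unit O) (fun W => injective_ap_of_mono (kernel.ι π) W)
      (relEqn_of_isFlat_baseMod hf))
  haveI : f.pull.PreservesHomology := Functor.preservesHomology_of_preservesMonos_and_cokernels _
  exact Functor.preservesFiniteLimits_of_preservesHomology _

end Groth.Agent.InvRingLib
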