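import Groth.Agent.InvRingLib.Basic

/-!
# The inverse image ring, in terms of representatives
-/

set_option autoImplicit false
set_option backward.isDefEq.respectTransparency false
set_option backward.isDefEq.respectTransparency.types false

universe u

open CategoryTheory Limits Opposite
open Groth.Agent.ModSiteLib.SetPull

namespace Groth.Agent.InvRingLib

variable {C D : Type u} [SmallCategory C] [SmallCategory D] {J : GrothendieckTopology C}
  {K : GrothendieckTopology D} {fn : D ⥤ C} [fn.IsContinuous K J]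
  [PreservesFiniteLimits (fn.sheafPullback (Type u) K J)] {R : Sheaf K CommRingCat.{u}}

/-- A glued operation. -/
noncomputable def op₂ (o : ∀ W, R.obj.obj (op W) → R.obj.obj (op W) → R.obj.obj (op W))
    (ho : ∀ ⦃W W' : D⦄ (k : W' ⟶ W) a b, rS R k (o W a b) = o W' (rS R k a) (rS R k b))
    {V : C} (x y : (Q J fn R).obj.obj (op V)) : (Q J fn R).obj.obj (op V) :=
  (exists_op o ho x y).choose

theorem op₂_spec (o : ∀ W, R.obj.obj (op W) → R.obj.obj (op W) → R.obj.obj (op W))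
    (ho : ∀ ⦃W W' : D⦄ (k : W' ⟶ W) a b, rS R k (o W a b) = o W' (rS R k a) (rS R k b))
    {V V' : C} {x y : (Q J fn R).obj.obj (op V)} (g : V' ⟶ V) {W : D} {h : V' ⟶ fn.obj W}
    {a b : R.obj.obj (op W)} (ea : rQ g x = η ⟨W, h, a⟩) (eb : rQ g y = η ⟨W, h, b⟩) :
    rQ g (op₂ o ho x y) = η ⟨W, h, o W a b⟩ :=
  (exists_op o ho x y).choose_spec g W h a b ea eb

theorem rQ_id {V : C} (z : (Q J fn R).obj.obj (op V)) : rQ (𝟙 V) z = z := by simp [rQ]

theorem op₂_η (o : ∀ W, R.obj.obj (op W) → R.obj.obj (op W) → R.obj.obj (op W))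
    (ho : ∀ ⦃W W' : D⦄ (k : W' ⟶ W) a b, rS R k (o W a b) = o W' (rS R k a) (rS R k b))
    {V : C} {W : D} (h : V ⟶ fn.obj W) (a b : R.obj.obj (op W)) :
    op₂ (J := J) o ho (η ⟨W, h, a⟩) (η ⟨W, h, b⟩) = η ⟨W, h, o W a b⟩ :=
  (rQ_id _).symm.trans (op₂_spec o ho (𝟙 V) (rQ_id _) (rQ_id _))

theorem rQ_op₂ (o : ∀ W, R.obj.obj (op W) → R.obj.obj (op W) → R.obj.obj (op W))
    (ho : ∀ ⦃W W' : D⦄ (k : W' ⟶ W) a b, rS R k (o W a b) = o W' (rS R k a) (rS R k b))
    {V V' : C} (g : V' ⟶ V) (x y : (Q J fn R).obj.obj (op V)) :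
    rQ g (op₂ o ho x y) = op₂ o ho (rQ g x) (rQ g y) := by
  refine Q_ext (Loc.mono (loc_pullback (loc_rep₂ x y) g) ?_)
  rintro V'' g' ⟨W, h, a, b, ea, eb⟩
  rw [rQ_rQ, op₂_spec o ho (g' ≫ g) ea eb,
    op₂_spec o ho g' ((rQ_rQ g g' x).trans ea) ((rQ_rQ g g' y).trans eb)]

variable (J fn R)

/-- The image of a global constant family. -/
theorem exists_const (c : ∀ W, R.obj.obj (op W))
    (hc : ∀ ⦃W W' : D⦄ (k : W' ⟶ W), rS R k (c W) = c W') (V : C) :
    ∃ z : (Q J fn R).obj.obj (op V), ∀ ⦃V' : C⦄ (g : V' ⟶ V) (W : D) (h : V' ⟶ fn.obj W),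
      rQ g z = η ⟨W, h, c W⟩ := by
  obtain ⟨S, hS, hp⟩ := loc_obj (fn := fn) (J := J) (K := K) V
  choose W hW using hp
  let h := fun {V' : C} (g : V' ⟶ V) (hg : S g) => (hW g hg).some
  have wd : ∀ {V' : C} {W W' : D} (h : V' ⟶ fn.obj W) (h' : V' ⟶ fn.obj W'),
      η (J := J) (R := R) ⟨W, h, c W⟩ = η ⟨W', h', c W'⟩ := fun {V'} {W W'} h h' =>
    η_eq (Loc.mono (loc_lift_pair (J := J) (K := K) fn h h') fun _ g ⟨W₀, h₀, p, q, ep, eq⟩ =>
      ⟨W₀, h₀, p, q, ep, eq, (hc p).trans (hc q).symm⟩)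
  let fam : Presieve.FamilyOfElements (Q J fn R).obj S.arrows :=
    fun V' g hg => η ⟨W g hg, h g hg, c _⟩
  have hcomp : fam.Compatible := by
    intro Y₁ Y₂ Z g₁ g₂ f₁ f₂ h₁ h₂ _
    show rQ g₁ (η (J := J) (R := R) _) = rQ g₂ (η (J := J) (R := R) _)
    rw [rQ_η, rQ_η]
    exact wd _ _
  have hsf := (isSheaf_iff_isSheaf_of_type _ _).1 (Q J fn R).2 S hS
  refine ⟨hsf.amalgamate fam hcomp, fun V' g W₁ h₁ => ?_⟩
  refine Q_ext ⟨S.pullback g, J.pullback_stable g hS, fun V'' g' hg' => ?_⟩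
  have e0 : rQ (g' ≫ g) (hsf.amalgamate fam hcomp) = fam (g' ≫ g) hg' :=
    hsf.valid_glue hcomp (g' ≫ g) hg'
  show rQ g' (rQ g _) = rQ g' _
  rw [rQ_rQ, e0, rQ_η]
  exact wd _ _

variable {J fn R}

/-- The zero section. -/
noncomputable def zQ (V : C) : (Q J fn R).obj.obj (op V) :=
  (exists_const J fn R (fun _ => 0) (fun _ _ _ => map_zero _) V).choose

theorem rQ_zQ {V V' : C} (g : V' ⟶ V) {W : D} (h : V' ⟶ fn.obj W) :
    rQ g (zQ (J := J) (R := R) V) = η ⟨W, h, 0⟩ :=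
  (exists_const J fn R (fun _ => 0) (fun _ _ _ => map_zero _) V).choose_spec g W h

/-- The unit section. -/
noncomputable def oQ (V : C) : (Q J fn R).obj.obj (op V) :=
  (exists_const J fn R (fun _ => 1) (fun _ _ _ => map_one _) V).choose

theorem rQ_oQ {V V' : C} (g : V' ⟶ V) {W : D} (h : V' ⟶ fn.obj W) :
    rQ g (oQ (J := J) (R := R) V) = η ⟨W, h, 1⟩ :=
  (exists_const J fn R (fun _ => 1) (fun _ _ _ => map_one _) V).choose_spec g W h

/-- Addition. -/
noncomputable def addQ {V : C} (x y : (Q J fn R).obj.obj (op V)) : (Q J fn R).obj.obj (op V) :=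
  op₂ (fun _ a b => a + b) (fun _ _ k a b => map_add (R.obj.map k.op).hom a b) x y

/-- Multiplication. -/
noncomputable def mulQ {V : C} (x y : (Q J fn R).obj.obj (op V)) : (Q J fn R).obj.obj (op V) :=
  op₂ (fun _ a b => a * b) (fun _ _ k a b => map_mul (R.obj.map k.op).hom a b) x y

/-- Negation. -/
noncomputable def negQ {V : C} (x : (Q J fn R).obj.obj (op V)) : (Q J fn R).obj.obj (op V) :=
  op₂ (fun _ a _ => -a) (fun _ _ k a _ => map_neg (R.obj.map k.op).hom a) x x

theorem addQ_η {V : C} {W : D} (h : V ⟶ fn.obj W) (a b : R.obj.obj (op W)) :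
    addQ (J := J) (η ⟨W, h, a⟩) (η ⟨W, h, b⟩) = η ⟨W, h, a + b⟩ := op₂_η _ _ h a b

theorem mulQ_η {V : C} {W : D} (h : V ⟶ fn.obj W) (a b : R.obj.obj (op W)) :
    mulQ (J := J) (η ⟨W, h, a⟩) (η ⟨W, h, b⟩) = η ⟨W, h, a * b⟩ := op₂_η _ _ h a b

theorem negQ_η {V : C} {W : D} (h : V ⟶ fn.obj W) (a : R.obj.obj (op W)) :
    negQ (J := J) (η ⟨W, h, a⟩) = η ⟨W, h, -a⟩ := op₂_η _ _ h a a

theorem rQ_addQ {V V' : C} (g : V' ⟶ V) (x y : (Q J fn R).obj.obj (op V)) :
    rQ g (addQ x y) = addQ (rQ g x) (rQ g y) := rQ_op₂ _ _ g x y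

theorem rQ_mulQ {V V' : C} (g : V' ⟶ V) (x y : (Q J fn R).obj.obj (op V)) :
    rQ g (mulQ x y) = mulQ (rQ g x) (rQ g y) := rQ_op₂ _ _ g x y

theorem rQ_negQ {V V' : C} (g : V' ⟶ V) (x : (Q J fn R).obj.obj (op V)) :
    rQ g (negQ x) = negQ (rQ g x) := rQ_op₂ _ _ g x x

noncomputable instance (V : Cᵒᵖ) : CommRing ((Q J fn R).obj.obj V) :=
  letI : Add ((Q J fn R).obj.obj V) := ⟨addQ (V := V.unop)⟩
  letI : Mul ((Q J fn R).obj.obj V) := ⟨mulQ (V := V.unop)⟩
  letI : Neg ((Q J fn R).obj.obj V) := ⟨negQ (V := V.unop)⟩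
  letI : Zero ((Q J fn R).obj.obj V) := ⟨zQ V.unop⟩
  letI : One ((Q J fn R).obj.obj V) := ⟨oQ V.unop⟩
  CommRing.ofMinimalAxioms
    (fun x y z => Q_ext (V := V.unop) (Loc.mono (loc_rep₃ x y z) fun V' g ⟨W, h, a, b, c, ea, eb, ec⟩ => by
      show rQ g (addQ (addQ x y) z) = rQ g (addQ x (addQ y z))
      rw [rQ_addQ, rQ_addQ, rQ_addQ, rQ_addQ, ea, eb, ec, addQ_η, addQ_η, addQ_η, addQ_η, add_assoc]))
    (fun x => Q_ext (V := V.unop) (Loc.mono (loc_rep₂ x x) fun V' g ⟨W, h, a, _, ea, _⟩ => by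
      show rQ g (addQ (zQ V.unop) x) = rQ g x
      rw [rQ_addQ, rQ_zQ g h, ea, addQ_η, zero_add]))
    (fun x => Q_ext (V := V.unop) (Loc.mono (loc_rep₂ x x) fun V' g ⟨W, h, a, _, ea, _⟩ => by
      show rQ g (addQ (negQ x) x) = rQ g (zQ V.unop)
      rw [rQ_addQ, rQ_negQ, rQ_zQ g h, ea, negQ_η, addQ_η, neg_add_cancel]))
    (fun x y z => Q_ext (V := V.unop) (Loc.mono (loc_rep₃ x y z) fun V' g ⟨W, h, a, b, c, ea, eb, ec⟩ => by
      show rQ g (mulQ (mulQ x y) z) = rQ g (mulQ x (mulQ y z))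
      rw [rQ_mulQ, rQ_mulQ, rQ_mulQ, rQ_mulQ, ea, eb, ec, mulQ_η, mulQ_η, mulQ_η, mulQ_η, mul_assoc]))
    (fun x y => Q_ext (V := V.unop) (Loc.mono (loc_rep₂ x y) fun V' g ⟨W, h, a, b, ea, eb⟩ => by
      show rQ g (mulQ x y) = rQ g (mulQ y x)
      rw [rQ_mulQ, rQ_mulQ, ea, eb, mulQ_η, mulQ_η, mul_comm]))
    (fun x => Q_ext (V := V.unop) (Loc.mono (loc_rep₂ x x) fun V' g ⟨W, h, a, _, ea, _⟩ => by
      show rQ g (mulQ (oQ V.unop) x) = rQ g x
      rw [rQ_mulQ, rQ_oQ g h, ea, mulQ_η, one_mul]))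
    (fun x y z => Q_ext (V := V.unop) (Loc.mono (loc_rep₃ x y z) fun V' g ⟨W, h, a, b, c, ea, eb, ec⟩ => by
      show rQ g (mulQ x (addQ y z)) = rQ g (addQ (mulQ x y) (mulQ x z))
      rw [rQ_mulQ, rQ_addQ, rQ_addQ, rQ_mulQ, rQ_mulQ, ea, eb, ec, addQ_η, mulQ_η, mulQ_η, mulQ_η,
        addQ_η, mul_add]))

variable (J fn R) in
/-- The sheaf of rings of local classes. -/
noncomputable def QRing : Sheaf J CommRingCat.{u} where
  obj :=
    { obj := fun V => CommRingCat.of ((Q J fn R).obj.obj V)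
      map := fun {V V'} g => CommRingCat.ofHom
        { toFun := fun x => rQ (V := V.unop) (V' := V'.unop) g.unop x
          map_zero' := by
            refine Q_ext (V := V'.unop) (Loc.mono (loc_obj (fn := fn) (J := J) (K := K) V'.unop) ?_)
            rintro V'' g' ⟨W, ⟨h⟩⟩
            show rQ g' (rQ g.unop (zQ V.unop)) = rQ g' (zQ V'.unop)
            rw [rQ_rQ, rQ_zQ _ h, rQ_zQ _ h]
          map_one' := by
            refine Q_ext (V := V'.unop) (Loc.mono (loc_obj (fn := fn) (J := J) (K := K) V'.unop) ?_)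
            rintro V'' g' ⟨W, ⟨h⟩⟩
            show rQ g' (rQ g.unop (oQ V.unop)) = rQ g' (oQ V'.unop)
            rw [rQ_rQ, rQ_oQ _ h, rQ_oQ _ h]
          map_add' := fun x y => rQ_addQ (V := V.unop) g.unop x y
          map_mul' := fun x y => rQ_mulQ (V := V.unop) g.unop x y }
      map_id := fun V => by
        refine CommRingCat.hom_ext (RingHom.ext fun x => ?_)
        exact rQ_id (V := V.unop) x
      map_comp := fun {V V' V''} g g' => by
        refine CommRingCat.hom_ext (RingHom.ext fun x => ?_)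
        exact (rQ_rQ (V := V.unop) g.unop g'.unop x).symm }
  property := (Presheaf.isSheaf_iff_isSheaf_comp J _ (forget CommRingCat.{u})).2 (Q J fn R).2

variable (J fn R) in
/-- The tautological map. -/
noncomputable def unitQ :
    R ⟶ (fn.sheafPushforwardContinuous CommRingCat.{u} K J).obj (QRing J fn R) :=
  ⟨{ app := fun W => CommRingCat.ofHom
      { toFun := fun a => η (R := R) ⟨W.unop, 𝟙 _, a⟩
        map_zero' := ((rQ_id _).symm.trans (rQ_zQ (𝟙 _) (𝟙 _))).symm
        map_one' := ((rQ_id _).symm.trans (rQ_oQ (𝟙 _) (𝟙 _))).symm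
        map_add' := fun a b => (addQ_η (𝟙 _) a b).symm
        map_mul' := fun a b => (mulQ_η (𝟙 _) a b).symm }
     naturality := fun {W W'} k => by
      refine CommRingCat.hom_ext (RingHom.ext fun a => ?_)
      refine Eq.trans ?_ (rQ_η (fn.map k.unop) (⟨W.unop, 𝟙 _, a⟩ : Rep fn R (fn.obj W.unop))).symm
      show η (J := J) (R := R) ⟨W'.unop, 𝟙 _, rS R k.unop a⟩ = η ⟨W.unop, fn.map k.unop ≫ 𝟙 _, a⟩
      rw [← η_refine]
      simp }⟩

variable (J fn R) in
/-- The inverse image ring. -/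
noncomputable abbrev inv : Sheaf J CommRingCat.{u} := (fn.sheafPullback CommRingCat.{u} K J).obj R

/-- The section of the inverse image ring attached to a representative. -/
noncomputable def uR {V : C} {W : D} (h : V ⟶ fn.obj W) (a : R.obj.obj (op W)) :
    (inv J fn R).obj.obj (op V) :=
  ((inv J fn R).obj.map h.op).hom
    ((((fn.sheafAdjunctionContinuous CommRingCat.{u} K J).unit.app R).hom.app (op W)).hom a)

theorem res_uR {V V' : C} (g : V' ⟶ V) {W : D} (h : V ⟶ fn.obj W) (a : R.obj.obj (op W)) :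
    ((inv J fn R).obj.map g.op).hom (uR h a) = uR (J := J) (g ≫ h) a := by
  simp [uR]

theorem uR_zero {V : C} {W : D} (h : V ⟶ fn.obj W) : uR (J := J) (R := R) h 0 = 0 :=
  (congrArg ((inv J fn R).obj.map h.op).hom (map_zero _)).trans (map_zero _)

theorem uR_one {V : C} {W : D} (h : V ⟶ fn.obj W) : uR (J := J) (R := R) h 1 = 1 :=
  (congrArg ((inv J fn R).obj.map h.op).hom (map_one _)).trans (map_one _)

theorem uR_add {V : C} {W : D} (h : V ⟶ fn.obj W) (a b : R.obj.obj (op W)) :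
    uR (J := J) h (a + b) = uR h a + uR h b :=
  (congrArg ((inv J fn R).obj.map h.op).hom (map_add _ a b)).trans (map_add _ _ _)

theorem uR_mul {V : C} {W : D} (h : V ⟶ fn.obj W) (a b : R.obj.obj (op W)) :
    uR (J := J) h (a * b) = uR h a * uR h b :=
  (congrArg ((inv J fn R).obj.map h.op).hom (map_mul _ a b)).trans (map_mul _ _ _)

theorem uR_refine {V : C} {W W₀ : D} (h₀ : V ⟶ fn.obj W₀) (p : W₀ ⟶ W) (a : R.obj.obj (op W)) :
    uR (J := J) h₀ (rS R p a) = uR (h₀ ≫ fn.map p) a := by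
  rw [← res_uR h₀ (fn.map p) a]
  refine congrArg ((inv J fn R).obj.map h₀.op).hom ?_
  exact congr($(((fn.sheafAdjunctionContinuous CommRingCat.{u} K J).unit.app R).hom.naturality p.op) a)

theorem inv_ext {V : C} {x y : (inv J fn R).obj.obj (op V)}
    (h : Loc J V fun _ g => ((inv J fn R).obj.map g.op).hom x = ((inv J fn R).obj.map g.op).hom y) :
    x = y := by
  obtain ⟨S, hS, hp⟩ := h
  exact Presieve.IsSeparatedFor.ext (((isSheaf_iff_isSheaf_of_type _ _).1
    ((Presheaf.isSheaf_iff_isSheaf_comp J _ (forget CommRingCat.{u})).1 (inv J fn R).2) S hS).isSeparatedFor) hp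

/-- The comparison map. -/
noncomputable def toQRing : inv J fn R ⟶ QRing J fn R :=
  ((fn.sheafAdjunctionContinuous CommRingCat.{u} K J).homEquiv R (QRing J fn R)).symm (unitQ J fn R)

theorem toQRing_uR {V : C} {W : D} (h : V ⟶ fn.obj W) (a : R.obj.obj (op W)) :
    ((toQRing (J := J)).hom.app (op V)).hom (uR h a) = η (R := R) ⟨W, h, a⟩ := by
  refine (congr($((toQRing (J := J) (fn := fn) (R := R)).hom.naturality h.op) _)).trans ?_
  have e : (((fn.sheafAdjunctionContinuous CommRingCat.{u} K J).homEquiv R (QRing J fn R))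
      (toQRing (J := J))) = unitQ J fn R := Equiv.apply_symm_apply _ _
  rw [Adjunction.homEquiv_unit] at e
  refine (congrArg (rQ (J := J) (fn := fn) (R := R) h) congr(($(e).hom.app (op W)).hom a)).trans ?_
  refine (rQ_η h _).trans ?_
  simp [Rep.rest]

/-- The comparison map back, on sets. -/
noncomputable def fromQ :
    (Q J fn R) ⟶ (sheafCompose J (forget CommRingCat.{u})).obj (inv J fn R) :=
  ⟨sheafifyLift J
    { app := fun V => ↾Quotient.lift (s := repSetoid J fn R V.unop)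
        (fun x => uR (J := J) x.h x.b)
        (fun x y h => inv_ext (Loc.mono h fun V' g ⟨W₀, h₀, p, q, e₁, e₂, e₃⟩ => by
          rw [res_uR, res_uR, e₁, e₂, ← uR_refine, ← uR_refine, e₃]))
      naturality := fun V V' g => by
        ext x
        induction x using Quotient.ind with | _ x => exact (res_uR g.unop x.h x.b).symm }
    ((sheafCompose J (forget CommRingCat.{u})).obj (inv J fn R)).2⟩

theorem fromQ_η {V : C} (x : Rep fn R V) :
    (fromQ (J := J)).hom.app (op V) (η x) = uR x.h x.b := by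
  exact ConcreteCategory.congr_hom (congr_app (toSheafify_sheafifyLift J (P := Pre J fn R) _ _) (op V))
    (Quotient.mk (repSetoid J fn R V) x)

theorem fromQ_rQ {V V' : C} (g : V' ⟶ V) (z : (Q J fn R).obj.obj (op V)) :
    ((inv J fn R).obj.map g.op).hom ((fromQ (J := J)).hom.app (op V) z) =
      (fromQ (J := J)).hom.app (op V') (rQ g z) :=
  (NatTrans.naturality_apply (fromQ (J := J) (fn := fn) (R := R)).hom g.op z).symm

/-- The comparison map back. -/
noncomputable def fromQRing : QRing J fn R ⟶ inv J fn R :=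
  ⟨{ app := fun V => CommRingCat.ofHom
      { toFun := fun x => (fromQ (J := J)).hom.app V x
        map_zero' := by
          refine inv_ext (V := V.unop) (Loc.mono (loc_obj (fn := fn) (J := J) (K := K) V.unop) ?_)
          rintro V' g ⟨W, ⟨h⟩⟩
          refine (fromQ_rQ g _).trans ?_
          show (fromQ (J := J)).hom.app (op V') (rQ g (zQ V.unop)) = _
          rw [rQ_zQ g h, fromQ_η, map_zero]
          exact uR_zero h
        map_one' := by
          refine inv_ext (V := V.unop) (Loc.mono (loc_obj (fn := fn) (J := J) (K := K) V.unop) ?_)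
          rintro V' g ⟨W, ⟨h⟩⟩
          refine (fromQ_rQ g _).trans ?_
          show (fromQ (J := J)).hom.app (op V') (rQ g (oQ V.unop)) = _
          rw [rQ_oQ g h, fromQ_η, map_one]
          exact uR_one h
        map_add' := fun x y => by
          refine inv_ext (V := V.unop) (Loc.mono (loc_rep₂ x y) ?_)
          rintro V' g ⟨W, h, a, b, ea, eb⟩
          refine (fromQ_rQ g _).trans ?_
          rw [map_add]
          refine Eq.trans ?_ (congrArg₂ (· + ·) (fromQ_rQ g x) (fromQ_rQ g y)).symm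
          show (fromQ (J := J)).hom.app (op V') (rQ g (addQ x y)) = _
          rw [rQ_addQ, ea, eb, addQ_η, fromQ_η, fromQ_η, fromQ_η]
          exact uR_add h a b
        map_mul' := fun x y => by
          refine inv_ext (V := V.unop) (Loc.mono (loc_rep₂ x y) ?_)
          rintro V' g ⟨W, h, a, b, ea, eb⟩
          refine (fromQ_rQ g _).trans ?_
          rw [map_mul]
          refine Eq.trans ?_ (congrArg₂ (· * ·) (fromQ_rQ g x) (fromQ_rQ g y)).symm
          show (fromQ (J := J)).hom.app (op V') (rQ g (mulQ x y)) = _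
          rw [rQ_mulQ, ea, eb, mulQ_η, fromQ_η, fromQ_η, fromQ_η]
          exact uR_mul h a b }
     naturality := fun {V V'} g => by
      refine CommRingCat.hom_ext (RingHom.ext fun x => ?_)
      exact (fromQ_rQ (V := V.unop) (V' := V'.unop) g.unop x).symm }⟩

theorem toQRing_fromQRing : toQRing (J := J) ≫ fromQRing = 𝟙 (inv J fn R) := by
  refine ((fn.sheafAdjunctionContinuous CommRingCat.{u} K J).homEquiv R _).injective ?_
  rw [Adjunction.homEquiv_naturality_right, toQRing, Equiv.apply_symm_apply, Adjunction.homEquiv_id]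
  ext W a
  show (fromQ (J := J)).hom.app (op (fn.obj W.unop)) (η ⟨W.unop, 𝟙 _, a⟩) = _
  rw [fromQ_η]
  simp [uR]

/-- Sections of the inverse image ring locally come from the base. -/
theorem loc_uR {V : C} (s : (inv J fn R).obj.obj (op V)) :
    Loc J V fun V' g => ∃ (W : D) (h : V' ⟶ fn.obj W) (a : R.obj.obj (op W)),
      ((inv J fn R).obj.map g.op).hom s = uR h a := by
  refine Loc.mono (loc_rep ((toQRing (J := J)).hom.app (op V) s)) ?_
  rintro V' g ⟨x, hx⟩
  refine ⟨x.W, x.h, x.b, ?_⟩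
  have hs : (fromQ (J := J)).hom.app (op V) (((toQRing (J := J)).hom.app (op V)).hom s) = s :=
    congr(($(toQRing_fromQRing (J := J) (fn := fn) (R := R)).hom.app (op V)).hom s)
  rw [← hs]
  exact (fromQ_rQ g _).trans ((congrArg _ hx).trans (fromQ_η x))

/-- Equal sections of the inverse image ring have a common refinement. -/
theorem loc_eq_uR {V : C} {W : D} (h : V ⟶ fn.obj W) (a b : R.obj.obj (op W))
    (e : uR (J := J) h a = uR h b) :
    Loc J V fun V' g => ∃ (W₀ : D) (h₀ : V' ⟶ fn.obj W₀) (p : W₀ ⟶ W),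
      g ≫ h = h₀ ≫ fn.map p ∧ rS R p a = rS R p b := by
  have e' : η (J := J) (R := R) ⟨W, h, a⟩ = η ⟨W, h, b⟩ := by
    rw [← toQRing_uR, ← toQRing_uR, e]
  refine Loc.bind (ref_of_η_eq e') ?_
  rintro V' g ⟨W₀, h₀, p, q, e₁, e₂, e₃⟩
  dsimp only at e₁ e₂ e₃
  refine Loc.mono (loc_lift_eq (J := J) (K := K) fn p q h₀ (e₁.symm.trans e₂)) ?_
  rintro V'' g' ⟨W₁, h₁, k, hk, ek⟩
  refine ⟨W₁, h₁, k ≫ p, ?_, ?_⟩
  · rw [Category.assoc, e₁, fn.map_comp, reassoc_of% ek]
  · rw [rS_comp, e₃, ← rS_comp, ← hk]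

end Groth.Agent.InvRingLib
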