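import Groth.Agent.InvRingLib.RelExact
import Groth.Agent.ModSiteLib.FlatStalk

/-!
# Relative flatness from stalks
-/

set_option autoImplicit false
set_option linter.style.haveILetI false
set_option backward.isDefEq.respectTransparency false
set_option backward.isDefEq.respectTransparency.types false
set_option maxHeartbeats 800000

universe u

open CategoryTheory Limits Opposite Groth.Agent.ModSiteLib
open Groth.Agent.ModSiteLib.SetPull _root_.ModSiteLib

namespace Groth.Agent.InvRingLib

variable {C : Type u} [SmallCategory C] {J : GrothendieckTopology C} {O : Sheaf J CommRingCat.{u}}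
  {D : Type u} [SmallCategory D] {K : GrothendieckTopology D} {O_D : Sheaf K CommRingCat.{u}}
  (f : ModSite.RMor O O_D)

/-- An `O`-module as a module over the inverse image ring. -/
noncomputable abbrev resMod (G : ModSite.Mod O) : ModSite.Mod f.invRing :=
  (SheafOfModules.restrictScalars
    ((sheafCompose J (forget₂ CommRingCat.{u} RingCat.{u})).map f.invSharp)).obj G

/-- Flat stalks over the stalks of the inverse image ring give relative flatness. -/
theorem relEqn_of_flat_stalks {G : ModSite.Mod O}
    {P : ObjectProperty (GrothendieckTopology.Point.{u} J)} (hP : P.IsConservativeFamilyOfPoints)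
    (hG : ∀ p : GrothendieckTopology.Point.{u} J, P p →
      @Module.Flat (ModSite.stalkRing p f.invRing) (ModSite.stalkAb p G) _ _
        (Module.compHom (ModSite.stalkAb p G) ((p.sheafFiber (A := CommRingCat.{u})).map f.invSharp).hom)) :
    RelEqn f G := by
  refine relEqn_of_inv fun V W h n m c g hg => ?_
  let C' : Fin n → Fin m → f.invRing.obj.obj (op V) := fun j a => uR (J := J) h (c j a)
  let G' := resMod f G
  let Good : (Σ V' : C, V' ⟶ V) → Prop := fun k =>
    ∃ (l : ℕ) (t : Fin l → Sec G k.1) (a : Fin n → Fin l → f.invRing.obj.obj (op k.1)),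
      (∀ j, res ((jP O).obj G) k.2.op (g j) =
        ∑ i, (f.invSharp.hom.app (op k.1)).hom (a j i) • t i) ∧
      ∀ a' i, ∑ j, a j i * rC k.2 (C' j a') = 0
  have hcov : Sieve.ofArrows _ (fun k : {k // Good k} => k.1.2) ∈ J V := by
    rw [hP.jointly_reflect_ofArrows_mem]
    rintro ⟨p, hp⟩ x
    let φ := ((p.sheafFiber (A := CommRingCat.{u})).map f.invSharp).hom
    letI instM : Module (ModSite.stalkRing p f.invRing) (ModSite.stalkAb p G) :=
      Module.compHom (ModSite.stalkAb p G) φ
    haveI : Module.Flat (ModSite.stalkRing p f.invRing) (ModSite.stalkAb p G) := hG p hp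
    have hφ : ∀ {V' : C} (y : p.fiber.obj V') (r : f.invRing.obj.obj (op V')),
        φ (ModSite.germRing p V' y r) = ModSite.germRing p V' y ((f.invSharp.hom.app (op V')).hom r) :=
      fun y r => p.toPresheafFiber_naturality_apply f.invSharp.hom _ y r
    have hsm : ∀ {V' : C} (y : p.fiber.obj V') (r : f.invRing.obj.obj (op V')) (s : Sec G V'),
        ModSite.germRing p V' y r • ModSite.germ p G V' y s =
          ModSite.germ p G V' y ((f.invSharp.hom.app (op V')).hom r • s) := fun {V'} y r s => by
      show φ (ModSite.germRing p V' y r) • ModSite.germ p G V' y s = _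
      rw [hφ]
      exact (ModSite.germ_smul p G V' y _ s).symm
    let γ : Fin n → ModSite.stalkAb p G := fun j => ModSite.germ p G V x (g j)
    let A := ModSite.stalkRing p f.invRing
    let fm : (Fin m → A) →ₗ[A] (Fin n → A) :=
      Fintype.linearCombination A fun a j => ModSite.germRing p V x (C' j a)
    let xm : (Fin n → A) →ₗ[A] ModSite.stalkAb p G := Fintype.linearCombination A γ
    have hx : xm ∘ₗ fm = 0 := by
      refine LinearMap.pi_ext' fun a => LinearMap.ext_ring ?_
      show xm (fm (Pi.single a 1)) = 0
      rw [show fm (Pi.single a 1) = fun j => ModSite.germRing p V x (C' j a) from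
        (Fintype.linearCombination_apply_single A _ a 1).trans (one_smul A _)]
      show Fintype.linearCombination A γ _ = 0
      rw [Fintype.linearCombination_apply]
      refine (Finset.sum_congr rfl fun j _ => hsm x (C' j a) (g j)).trans ?_
      refine (map_sum (p.toPresheafFiber V x (ModSite.toAb G).obj).hom _ _).symm.trans ?_
      refine Eq.trans (congrArg _ ?_) (map_zero (p.toPresheafFiber V x (ModSite.toAb G).obj).hom)
      refine Eq.trans (Finset.sum_congr rfl fun j _ => ?_) (hg a)
      exact congrArg (· • g j) (invSharp_uR h (c j a))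
    obtain ⟨k, am, ym, hxy, ham⟩ := Module.Flat.exists_factorization_of_comp_eq_zero_of_free hx
    let α : Fin n → Fin k → A := fun j i => am (Pi.single j 1) i
    let τ : Fin k → ModSite.stalkAb p G := fun i => ym (Finsupp.single i 1)
    have hγ : ∀ j, γ j = ∑ i, α j i • τ i := fun j => by
      have h1 : γ j = ym (am (Pi.single j 1)) := by
        rw [← LinearMap.comp_apply, ← hxy]
        simp [xm]
      rw [h1]
      conv_lhs => rw [← (am (Pi.single j 1)).univ_sum_single]
      rw [map_sum]
      refine Finset.sum_congr rfl fun i _ => ?_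
      rw [← map_smul, Finsupp.smul_single, smul_eq_mul, mul_one]
    have hα : ∀ a i, ∑ j, α j i * ModSite.germRing p V x (C' j a) = 0 := fun a i => by
      have h1 := DFunLike.congr_fun (LinearMap.congr_fun ham (Pi.single a 1)) i
      simp only [LinearMap.comp_apply, fm, Fintype.linearCombination_apply_single, one_smul,
        LinearMap.zero_apply, Finsupp.coe_zero, Pi.zero_apply] at h1
      rw [pi_eq_sum_univ (fun j => ModSite.germRing p V x (C' j a)), map_sum,
        Finsupp.finsetSum_apply] at h1
      refine Eq.trans (Finset.sum_congr rfl fun j _ => ?_) h1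
      rw [map_smul, Finsupp.smul_apply, smul_eq_mul, mul_comm]
      refine congrArg (_ * ·) (congrArg (fun e => am e i) (funext fun j' => ?_))
      simp [Pi.single_apply, eq_comm]
    obtain ⟨W₀, e, w, b, t, he, hb, ht⟩ :=
      FlatStalk.exists_lifts p G' (fun q : Fin n × Fin k => α q.1 q.2) τ x
    obtain ⟨V₁, k₁, v, hv, hR, hM⟩ := FlatStalk.exists_eq p G' w
      (fun q : Fin m × Fin k => ∑ j, b (j, q.2) * rC e (C' j q.1)) (fun _ => 0)
      (fun j => res ((jP f.invRing).obj G') e.op
        (show Sec G' V from g j)) (fun j => ∑ i, b (j, i) • t i)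
      (fun q => by
        refine (map_sum (p.toPresheafFiber W₀ w f.invRing.obj).hom _ _).trans
          (Eq.trans ?_ (map_zero (p.toPresheafFiber W₀ w f.invRing.obj).hom).symm)
        refine Eq.trans (Finset.sum_congr rfl fun j _ => ?_) (hα q.1 q.2)
        rw [map_mul]
        refine congrArg₂ (· * ·) (hb (j, q.2)) ((FlatStalk.germRing_res p e w (C' j q.1)).trans ?_)
        rw [he])
      (fun j => by
        refine (FlatStalk.germ_res p G' e w _).trans ?_
        rw [he]
        refine (hγ j).trans ?_
        refine Eq.trans ?_ (map_sum (p.toPresheafFiber W₀ w (ModSite.toAb G').obj).hom _ _).symm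
        refine Finset.sum_congr rfl fun i _ => ?_
        have e1 : α j i = ModSite.germRing p W₀ w (b (j, i)) := (hb (j, i)).symm
        have e2 : τ i = ModSite.germ p G W₀ w (show Sec G W₀ from t i) := (ht i).symm
        rw [e1, e2]
        exact hsm w (b (j, i)) (show Sec G W₀ from t i))
    refine ⟨⟨⟨V₁, k₁ ≫ e⟩, k, fun i => res ((jP O).obj G) k₁.op (show Sec G W₀ from t i),
      fun j i => rC k₁ (b (j, i)), fun j => ?_, fun a i => ?_⟩, v, ?_⟩
    · rw [op_comp, ← res_comp]
      refine (hM j).trans ((res_sum ((jP f.invRing).obj G') k₁.op _ _).trans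
        (Finset.sum_congr rfl fun i _ => ?_))
      exact res_smul ((jP f.invRing).obj G') k₁.op _ _
    · refine Eq.trans (Finset.sum_congr rfl fun j _ => ?_)
        (((map_sum (f.invRing.obj.map k₁.op).hom _ _).symm.trans (hR (a, i))).trans (map_zero _))
      rw [rC_comp]
      exact (map_mul _ _ _).symm
    · change p.fiber.map (k₁ ≫ e) v = x
      rw [Functor.map_comp_apply, hv, he]
  refine ⟨_, hcov, ?_⟩
  rintro V' _ ⟨Z, d, _, ⟨⟨⟨Z', e⟩, l, t, a, ht, ha⟩⟩, rfl⟩
  refine ⟨l, fun i => res ((jP O).obj G) d.op (t i), fun j i => rC d (a j i), fun j => ?_, fun a' i => ?_⟩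
  · rw [op_comp, ← res_comp, ht j, res_sum]
    refine Finset.sum_congr rfl fun i _ => ?_
    rw [res_smul]
    exact congrArg (· • res ((jP O).obj G) d.op (t i))
      (congr($(f.invSharp.hom.naturality d.op) (a j i))).symm
  · refine Eq.trans (Finset.sum_congr rfl fun j _ => ?_)
      (((map_sum (f.invRing.obj.map d.op).hom _ _).symm.trans (congrArg _ (ha a' i))).trans (map_zero _))
    rw [map_mul]
    refine congrArg (rC d (a j i) * ·) ?_
    show uR ((d ≫ e) ≫ h) (c j a') = (f.invRing.obj.map d.op).hom (rC e (C' j a'))
    rw [show rC e (C' j a') = uR (e ≫ h) (c j a') from res_uR e h _, res_uR, Category.assoc]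

end Groth.Agent.InvRingLib
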